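import Groth.Agent.H71.QCoh.FlatBaseChange
import Groth.Agent.H70.RelFlatBC.Iso

/-!
# Transfer of relative flatness of a pulled back module between base changes (helper24)

If `X₁ = X₀ ×_{Y₀} Y₁` and `X₂ = X₀ ×_{Y₀} Y₂` and `Y₂ → Y₁` is a `Y₀`-morphism, then flatness of the
pullback of `F₀` to `X₁` over `Y₁` implies flatness of the pullback of `F₀` to `X₂` over `Y₂`.
-/

set_option autoImplicit false

open CategoryTheory Limits AlgebraicGeometry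

namespace Groth.Agent.H24.ModFlat

universe u

theorem isFlatOver_of_isPullback {X₀ Y₀ X₁ Y₁ X₂ Y₂ : Scheme.{u}} {f₀ : X₀ ⟶ Y₀} {f₁ : X₁ ⟶ Y₁}
    {f₂ : X₂ ⟶ Y₂} {p₁ : X₁ ⟶ X₀} {q₁ : Y₁ ⟶ Y₀} {p₂ : X₂ ⟶ X₀} {q₂ : Y₂ ⟶ Y₀}
    (h₁ : IsPullback p₁ f₁ f₀ q₁) (h₂ : IsPullback p₂ f₂ f₀ q₂) (v : Y₂ ⟶ Y₁) (hv : v ≫ q₁ = q₂)
    (F₀ : X₀.Modules) [F₀.IsQuasicoherent]
    (hflat : FlatMod.IsFlatOver f₁ ((Scheme.Modules.pullback p₁).obj F₀)) :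
    FlatMod.IsFlatOver f₂ ((Scheme.Modules.pullback p₂).obj F₀) := by
  let w : X₂ ⟶ X₁ := h₁.lift p₂ (f₂ ≫ v) (by rw [Category.assoc, hv, h₂.w])
  have hw1 : w ≫ p₁ = p₂ := h₁.lift_fst _ _ _
  have hw2 : w ≫ f₁ = f₂ ≫ v := h₁.lift_snd _ _ _
  have hsq : IsPullback w f₂ f₁ v := IsPullback.of_right (by rw [hw1, hv]; exact h₂) hw2 h₁
  intro x
  have key := Groth.Agent.H71.QCoh.isFlatOverAt_baseChange hsq
    ((Scheme.Modules.pullback p₁).obj F₀) x (hflat (w x))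
  let e : (Scheme.Modules.pullback w).obj ((Scheme.Modules.pullback p₁).obj F₀) ≅
      (Scheme.Modules.pullback p₂).obj F₀ :=
    (Scheme.Modules.pullbackComp w p₁).app F₀ ≪≫ (Scheme.Modules.pullbackCongr hw1).app F₀
  exact Groth.Agent.H70.RelFlatBC.isFlatOverAt_of_iso f₂ e x key

/-- variant where the base morphism is changed by an isomorphism of the base -/
theorem isPullback_comp_iso {X₀ Y₀ Y₀' X₁ Y₁ : Scheme.{u}} {f₀ : X₀ ⟶ Y₀} (e : Y₀ ⟶ Y₀') [IsIso e]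
    {f₁ : X₁ ⟶ Y₁} {p₁ : X₁ ⟶ X₀} {q₁ : Y₁ ⟶ Y₀'} (h : IsPullback p₁ f₁ (f₀ ≫ e) q₁) :
    IsPullback p₁ f₁ f₀ (q₁ ≫ inv e) :=
  IsPullback.of_iso h (Iso.refl _) (Iso.refl _) (Iso.refl _) (asIso e).symm (by simp) (by simp)
    (by simp) (by simp)

end Groth.Agent.H24.ModFlat
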