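import Groth.Agent.H24.ModFlat.ChartStage
import Groth.Agent.H24.ModFlat.Transfer

/-!
# Flatness of a base changed module over a cofiltered limit descends to a stage (helper24)

`f₀ : X₀ ⟶ S_{i₀}` locally of finite presentation with `X₀` quasi-compact, `F₀` quasi-coherent of
finite presentation on `X₀`.  If the base change of `F₀` to `S = lim S_i` is flat over `S`, then the
base change to some `S_i` is flat over `S_i`.
-/

set_option autoImplicit false
universe u
open CategoryTheory CategoryTheory.Limits AlgebraicGeometry TensorProduct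

namespace Groth.Agent.H24.ModFlat

variable {I : Type u} [SmallCategory I] [IsCofiltered I] (D : I ⥤ Scheme.{u}) (c : Cone D)
  [∀ {i j : I} (f : i ⟶ j), IsAffineHom (D.map f)] (i₀ : I)

set_option maxHeartbeats 800000 in
/-- canonical form -/
theorem exists_isFlatOver_stage_canonical (hc : IsLimit c)
    {X₀ : Scheme.{u}} (f₀ : X₀ ⟶ D.obj i₀) [LocallyOfFinitePresentation f₀] [CompactSpace X₀]
    (F₀ : X₀.Modules) [F₀.IsQuasicoherent]
    [SheafOfModules.IsFinitePresentation (R := X₀.ringCatSheaf) F₀]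
    (hflat : FlatMod.IsFlatOver (pullback.snd f₀ (c.π.app i₀))
      ((Scheme.Modules.pullback (pullback.fst f₀ (c.π.app i₀))).obj F₀)) :
    ∃ ψ : Over i₀, FlatMod.IsFlatOver (pullback.snd f₀ (D.map ψ.hom))
      ((Scheme.Modules.pullback (pullback.fst f₀ (D.map ψ.hom))).obj F₀) := by
  classical
  have hπ : IsAffineHom (c.π.app i₀) := isAffineHom_π_app D c hc i₀
  -- charts
  choose U V hU hV hxU hUV using fun x : X₀ => Groth.Agent.H71.QCoh.exists_affine_pair f₀ x
  obtain ⟨t, ht⟩ := isCompact_univ.elim_finite_subcover (fun x : X₀ => (U x : Set X₀))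
    (fun x => (U x).2) (fun x _ => Set.mem_iUnion.mpr ⟨x, hxU x⟩)
  -- stage for each chart
  have hstage : ∀ x : X₀, ∃ ψ₁ : Over i₀, ∀ (ψ : Over i₀) (_ : ψ ⟶ ψ₁),
      ChartFlat f₀ F₀ (hUV x) ((D.map ψ.hom).appLE (V x) (D.map ψ.hom ⁻¹ᵁ V x) le_rfl).hom := by
    intro x
    refine exists_chartFlat_stage D c i₀ (V x) hc (hV x) f₀ F₀ (hU x) (hUV x) ?_
    exact chartFlat_of_isFlatOverAt (IsPullback.of_hasPullback f₀ (c.π.app i₀)) F₀ (hV x)
      ((hV x).preimage (c.π.app i₀)) (hU x) le_rfl (hUV x) (fun x' _ => hflat x')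
  choose ψ₁ hψ₁ using hstage
  obtain ⟨ψ, hψ⟩ := IsCofiltered.inf_objs_exists (t.image ψ₁)
  refine ⟨ψ, fun x' => ?_⟩
  have hmem : (pullback.fst f₀ (D.map ψ.hom)) x' ∈ ⋃ x ∈ t, (U x : Set X₀) := ht (Set.mem_univ _)
  obtain ⟨x, hxt, hx'⟩ : ∃ x ∈ t, (pullback.fst f₀ (D.map ψ.hom)) x' ∈ U x := by
    simpa using hmem
  obtain ⟨τ⟩ := hψ (Finset.mem_image_of_mem ψ₁ hxt)
  have hcf := hψ₁ x ψ τ
  have hA : IsAffineHom (D.map ψ.hom) := inferInstance
  refine isFlatOverAt_of_chartFlat (IsPullback.of_hasPullback f₀ (D.map ψ.hom)) F₀ (hV x)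
    ((hV x).preimage (D.map ψ.hom)) (hU x) le_rfl (hUV x) hcf ⟨hx', ?_⟩
  show (D.map ψ.hom) ((pullback.snd f₀ (D.map ψ.hom)) x') ∈ V x
  have hw : (D.map ψ.hom) ((pullback.snd f₀ (D.map ψ.hom)) x') =
      f₀ ((pullback.fst f₀ (D.map ψ.hom)) x') := by
    have := congrArg (fun k => k.base x') (pullback.condition (f := f₀) (g := D.map ψ.hom))
    simpa using this.symm
  rw [hw]
  exact hUV x hx'

end Groth.Agent.H24.ModFlat
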