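import Groth.Agent.H71.QCoh.FlatBaseChange

/-!
# Flatness of sections of a pulled back module on an affine chart of a fibre product (helper24)

In a cartesian square `X' = S' ×_S X`, for `F` quasi-coherent on `X` and affine opens `W ⊆ S`,
`W' ⊆ g⁻¹W`, `U ⊆ f⁻¹W`, with `U' = g'⁻¹U ∩ f'⁻¹W'`:
`Γ(g'^*F, U') ≃ Γ(S',W') ⊗_{Γ(S,W)} Γ(F,U)` as `Γ(S',W')`-modules; in particular flatness over
`Γ(S',W')` may be tested on the tensor product.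
-/

set_option autoImplicit false

open CategoryTheory Limits AlgebraicGeometry TopologicalSpace Opposite TensorProduct

namespace Groth.Agent.H24.ModFlat

universe u

variable {X S X' S' : Scheme.{u}} {f : X ⟶ S} {f' : X' ⟶ S'} {g' : X' ⟶ X} {g : S' ⟶ S}

/-- the chart `g'⁻¹U ∩ f'⁻¹W'` of a fibre product is affine -/
theorem isAffineOpen_chart (hc : IsPullback g' f' f g) {W : S.Opens} {W' : S'.Opens} {U : X.Opens}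
    (hW : IsAffineOpen W) (hW' : IsAffineOpen W') (hU : IsAffineOpen U)
    (hW'W : W' ≤ g ⁻¹ᵁ W) (hUW : U ≤ f ⁻¹ᵁ W) :
    IsAffineOpen (g' ⁻¹ᵁ U ⊓ f' ⁻¹ᵁ W') := by
  have : IsAffine _ := hW
  have : IsAffine _ := hW'
  have : IsAffine _ := hU
  exact .of_isIso (Scheme.Hom.isPullback_resLE hc hW'W hUW rfl).isoPullback.hom

set_option maxHeartbeats 1600000 in
/-- sections of the pulled back module over a chart of the fibre product, as a module over the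
sections of the new base -/
theorem flat_sections_pullback_iff (hc : IsPullback g' f' f g) (F : X.Modules)
    [F.IsQuasicoherent] {W : S.Opens} {W' : S'.Opens} {U : X.Opens}
    (hW : IsAffineOpen W) (hW' : IsAffineOpen W') (hU : IsAffineOpen U)
    (hW'W : W' ≤ g ⁻¹ᵁ W) (hUW : U ≤ f ⁻¹ᵁ W) :
    (letI : Module Γ(S', W') Γ((Scheme.Modules.pullback g').obj F, g' ⁻¹ᵁ U ⊓ f' ⁻¹ᵁ W') :=
        Module.compHom _ (f'.appLE W' (g' ⁻¹ᵁ U ⊓ f' ⁻¹ᵁ W') inf_le_right).hom;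
      Module.Flat Γ(S', W') Γ((Scheme.Modules.pullback g').obj F, g' ⁻¹ᵁ U ⊓ f' ⁻¹ᵁ W')) ↔
    (letI : Algebra Γ(S, W) Γ(S', W') := (g.appLE W W' hW'W).hom.toAlgebra;
      letI : Module Γ(S, W) Γ(F, U) := Module.compHom _ (f.appLE W U hUW).hom;
      Module.Flat Γ(S', W') (Γ(S', W') ⊗[Γ(S, W)] Γ(F, U))) := by
  have hiso := AlgebraicGeometry.isIso_pushoutSection_of_isAffineOpen hc
    (US := W) (UT := W') (UX := U) hW'W hUW (UY := g' ⁻¹ᵁ U ⊓ f' ⁻¹ᵁ W') rfl hW hW' hU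
  have hpo := (AlgebraicGeometry.isIso_pushoutSection_iff hc hW'W hUW rfl).1 hiso
  have hU' : IsAffineOpen (g' ⁻¹ᵁ U ⊓ f' ⁻¹ᵁ W') := isAffineOpen_chart hc hW hW' hU hW'W hUW
  have e' : g' ⁻¹ᵁ U ⊓ f' ⁻¹ᵁ W' ≤ g' ⁻¹ᵁ U := inf_le_left
  have e'' : g' ⁻¹ᵁ U ⊓ f' ⁻¹ᵁ W' ≤ f' ⁻¹ᵁ W' := inf_le_right
  letI algAB : Algebra Γ(S, W) Γ(X, U) := (f.appLE W U hUW).hom.toAlgebra
  letI algAA' : Algebra Γ(S, W) Γ(S', W') := (g.appLE W W' hW'W).hom.toAlgebra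
  letI algA'B' : Algebra Γ(S', W') Γ(X', g' ⁻¹ᵁ U ⊓ f' ⁻¹ᵁ W') :=
    (f'.appLE W' _ e'').hom.toAlgebra
  letI algBB' : Algebra Γ(X, U) Γ(X', g' ⁻¹ᵁ U ⊓ f' ⁻¹ᵁ W') := (g'.appLE U _ e').hom.toAlgebra
  letI algAB' : Algebra Γ(S, W) Γ(X', g' ⁻¹ᵁ U ⊓ f' ⁻¹ᵁ W') :=
    ((algebraMap Γ(X, U) Γ(X', g' ⁻¹ᵁ U ⊓ f' ⁻¹ᵁ W')).comp
      (algebraMap Γ(S, W) Γ(X, U))).toAlgebra
  haveI : IsScalarTower Γ(S, W) Γ(X, U) Γ(X', g' ⁻¹ᵁ U ⊓ f' ⁻¹ᵁ W') :=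
    IsScalarTower.of_algebraMap_eq (fun _ => rfl)
  haveI : IsScalarTower Γ(S, W) Γ(S', W') Γ(X', g' ⁻¹ᵁ U ⊓ f' ⁻¹ᵁ W') :=
    IsScalarTower.of_algebraMap_eq (fun a => by
      have := congrArg (fun k => k.hom a) hpo.w
      exact this)
  haveI hpo' : Algebra.IsPushout Γ(S, W) Γ(X, U) Γ(S', W') Γ(X', g' ⁻¹ᵁ U ⊓ f' ⁻¹ᵁ W') :=
    CommRingCat.isPushout_iff_isPushout.mp hpo
  haveI : Algebra.IsPushout Γ(S, W) Γ(S', W') Γ(X, U) Γ(X', g' ⁻¹ᵁ U ⊓ f' ⁻¹ᵁ W') := hpo'.symm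
  letI modAM : Module Γ(S, W) Γ(F, U) := Module.compHom _ (f.appLE W U hUW).hom
  haveI : IsScalarTower Γ(S, W) Γ(X, U) Γ(F, U) :=
    IsScalarTower.of_algebraMap_smul (fun r m => rfl)
  letI modA'Q : Module Γ(S', W') Γ((Scheme.Modules.pullback g').obj F, g' ⁻¹ᵁ U ⊓ f' ⁻¹ᵁ W') :=
    Module.compHom _ (f'.appLE W' (g' ⁻¹ᵁ U ⊓ f' ⁻¹ᵁ W') inf_le_right).hom
  haveI : IsScalarTower Γ(S', W') Γ(X', g' ⁻¹ᵁ U ⊓ f' ⁻¹ᵁ W')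
      Γ((Scheme.Modules.pullback g').obj F, g' ⁻¹ᵁ U ⊓ f' ⁻¹ᵁ W') :=
    IsScalarTower.of_algebraMap_smul (fun r m => rfl)
  let E1 : Γ((Scheme.Modules.pullback g').obj F, g' ⁻¹ᵁ U ⊓ f' ⁻¹ᵁ W') ≃ₗ[Γ(S', W')]
      Γ(X', g' ⁻¹ᵁ U ⊓ f' ⁻¹ᵁ W') ⊗[Γ(X, U)] Γ(F, U) :=
    (Groth.Agent.H44.pullbackSectionsEquiv g' F hU' hU e').restrictScalars Γ(S', W')
  let E2 : Γ(X', g' ⁻¹ᵁ U ⊓ f' ⁻¹ᵁ W') ⊗[Γ(X, U)] Γ(F, U) ≃ₗ[Γ(S', W')]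
      Γ(S', W') ⊗[Γ(S, W)] Γ(F, U) :=
    Algebra.IsPushout.cancelBaseChange Γ(S, W) Γ(S', W') Γ(X, U)
      Γ(X', g' ⁻¹ᵁ U ⊓ f' ⁻¹ᵁ W') Γ(F, U)
  exact Module.Flat.equiv_iff (E1 ≪≫ₗ E2)
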