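import Groth.Agent.H24.ModFlat.Chart

/-!
# Chartwise flatness of base changes of a quasi-coherent module (helper24)

`ChartFlat f F e φ`: for `f : X ⟶ S`, `F` on `X`, `U ≤ f⁻¹V` and a ring map `φ : Γ(S,V) → R`,
the `R`-module `R ⊗_{Γ(S,V)} Γ(F,U)` is flat.
-/

set_option autoImplicit false

open CategoryTheory Limits AlgebraicGeometry TopologicalSpace Opposite TensorProduct

namespace Groth.Agent.H24.ModFlat

universe u

/-- `R ⊗_{Γ(S,V)} Γ(F,U)` is flat over `R` -/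
def ChartFlat {S X : Scheme.{u}} (f : X ⟶ S) (F : X.Modules) {V : S.Opens} {U : X.Opens}
    (e : U ≤ f ⁻¹ᵁ V) {R : Type u} [CommRing R] (φ : Γ(S, V) →+* R) : Prop :=
  letI : Algebra Γ(S, V) R := φ.toAlgebra
  letI : Module Γ(S, V) Γ(F, U) := Module.compHom _ (f.appLE V U e).hom
  Module.Flat R (R ⊗[Γ(S, V)] Γ(F, U))

theorem ChartFlat.comp {S X : Scheme.{u}} {f : X ⟶ S} {F : X.Modules} {V : S.Opens} {U : X.Opens}
    {e : U ≤ f ⁻¹ᵁ V} {R R' : Type u} [CommRing R] [CommRing R'] {φ : Γ(S, V) →+* R}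
    (h : ChartFlat f F e φ) (ψ : R →+* R') : ChartFlat f F e (ψ.comp φ) := by
  unfold ChartFlat at h ⊢
  letI : Algebra Γ(S, V) R := φ.toAlgebra
  letI : Algebra R R' := ψ.toAlgebra
  letI : Algebra Γ(S, V) R' := (ψ.comp φ).toAlgebra
  haveI : IsScalarTower Γ(S, V) R R' := IsScalarTower.of_algebraMap_eq (fun _ => rfl)
  letI : Module Γ(S, V) Γ(F, U) := Module.compHom _ (f.appLE V U e).hom
  haveI : Module.Flat R (R ⊗[Γ(S, V)] Γ(F, U)) := h
  exact Module.Flat.of_linearEquiv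
    (TensorProduct.AlgebraTensorModule.cancelBaseChange Γ(S, V) R R' R' Γ(F, U)).symm

theorem ChartFlat.of_eq {S X : Scheme.{u}} {f : X ⟶ S} {F : X.Modules} {V : S.Opens} {U : X.Opens}
    {e : U ≤ f ⁻¹ᵁ V} {R R' : Type u} [CommRing R] [CommRing R'] {φ : Γ(S, V) →+* R}
    (h : ChartFlat f F e φ) (ψ : R →+* R') {χ : Γ(S, V) →+* R'} (hχ : ψ.comp φ = χ) :
    ChartFlat f F e χ := hχ ▸ h.comp ψ

variable {X S X' S' : Scheme.{u}} {f : X ⟶ S} {f' : X' ⟶ S'} {g' : X' ⟶ X} {g : S' ⟶ S}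

theorem chartFlat_of_isFlatOverAt (hc : IsPullback g' f' f g) (F : X.Modules)
    [F.IsQuasicoherent] {W : S.Opens} {W' : S'.Opens} {U : X.Opens}
    (hW : IsAffineOpen W) (hW' : IsAffineOpen W') (hU : IsAffineOpen U)
    (hW'W : W' ≤ g ⁻¹ᵁ W) (hUW : U ≤ f ⁻¹ᵁ W)
    (h : ∀ x' ∈ g' ⁻¹ᵁ U ⊓ f' ⁻¹ᵁ W',
      FlatMod.IsFlatOverAt f' ((Scheme.Modules.pullback g').obj F) x') :
    ChartFlat f F hUW (g.appLE W W' hW'W).hom := by
  have hU' := isAffineOpen_chart hc hW hW' hU hW'W hUW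
  exact (flat_sections_pullback_iff hc F hW hW' hU hW'W hUW).mp
    (Groth.Agent.H71.QCoh.flat_sections_base_of_isFlatOverAt f' _ hU' hW' inf_le_right h)

theorem isFlatOverAt_of_chartFlat (hc : IsPullback g' f' f g) (F : X.Modules)
    [F.IsQuasicoherent] {W : S.Opens} {W' : S'.Opens} {U : X.Opens}
    (hW : IsAffineOpen W) (hW' : IsAffineOpen W') (hU : IsAffineOpen U)
    (hW'W : W' ≤ g ⁻¹ᵁ W) (hUW : U ≤ f ⁻¹ᵁ W)
    (h : ChartFlat f F hUW (g.appLE W W' hW'W).hom) {x' : X'}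
    (hx' : x' ∈ g' ⁻¹ᵁ U ⊓ f' ⁻¹ᵁ W') :
    FlatMod.IsFlatOverAt f' ((Scheme.Modules.pullback g').obj F) x' := by
  have hU' := isAffineOpen_chart hc hW hW' hU hW'W hUW
  exact Groth.Agent.H71.QCoh.isFlatOverAt_of_flat_sections_base f' _ hU' hW' inf_le_right
    ((flat_sections_pullback_iff hc F hW hW' hU hW'W hUW).mpr h) hx'

end Groth.Agent.H24.ModFlat
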