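import Groth.Agent.S4848
import Groth.Agent.H24.DirectedStage
import Groth.Agent.H24.ModFlat.ChartFlat
import Groth.Agent.H44.FPSections

/-!
# Chartwise flatness over a cofiltered limit descends to a stage (helper24)
-/

set_option autoImplicit false
universe u
open CategoryTheory CategoryTheory.Limits AlgebraicGeometry TensorProduct

namespace Groth.Agent.H24.ModFlat

theorem appLE_comp_of_eq {X Y Z : Scheme.{u}} (f : X ⟶ Y) (g : Y ⟶ Z) (h : X ⟶ Z)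
    (hfg : f ≫ g = h) (V : Z.Opens) (W : Y.Opens) (U : X.Opens) (e1 : W ≤ g ⁻¹ᵁ V)
    (e2 : U ≤ f ⁻¹ᵁ W) (e3 : U ≤ h ⁻¹ᵁ V) :
    g.appLE V W e1 ≫ f.appLE W U e2 = h.appLE V U e3 := by
  subst hfg
  exact Scheme.Hom.appLE_comp_appLE ..

variable {I : Type u} [SmallCategory I] [IsCofiltered I] (D : I ⥤ Scheme.{u}) (c : Cone D)
  [∀ {i j : I} (f : i ⟶ j), IsAffineHom (D.map f)] (i₀ : I)
  (V₀ : (D.obj i₀).Opens)

/-- the structure map `Γ(S₀, V₀) → Γ(↑(D ψ)⁻¹V₀, ⊤)` -/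
noncomputable def ρ (ψ : Over i₀) :
    Γ(D.obj i₀, V₀) →+* Γ((opensDiagram D i₀ V₀).obj ψ, ⊤) :=
  (D.map ψ.hom ⁻¹ᵁ V₀).topIso.inv.hom.comp
    ((D.map ψ.hom).appLE V₀ (D.map ψ.hom ⁻¹ᵁ V₀) le_rfl).hom

/-- the structure map `Γ(S₀, V₀) → Γ(↑π⁻¹V₀, ⊤)` -/
noncomputable def ρI : Γ(D.obj i₀, V₀) →+* Γ((opensCone D c i₀ V₀).pt, ⊤) :=
  (c.π.app i₀ ⁻¹ᵁ V₀).topIso.inv.hom.comp
    ((c.π.app i₀).appLE V₀ (c.π.app i₀ ⁻¹ᵁ V₀) le_rfl).hom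

theorem resLE_appTop_cat {X Y Z : Scheme.{u}} (f : X ⟶ Y) (g : Y ⟶ Z) (h : X ⟶ Z)
    (hfg : f ≫ g = h) (V : Z.Opens) (e : h ⁻¹ᵁ V ≤ f ⁻¹ᵁ (g ⁻¹ᵁ V)) :
    (g.appLE V (g ⁻¹ᵁ V) le_rfl ≫ (g ⁻¹ᵁ V).topIso.inv) ≫
        (f.resLE (g ⁻¹ᵁ V) (h ⁻¹ᵁ V) e).appTop =
      h.appLE V (h ⁻¹ᵁ V) le_rfl ≫ (h ⁻¹ᵁ V).topIso.inv := by
  rw [Scheme.Hom.appTop, Scheme.Hom.resLE_app_top]
  rw [Category.assoc, Iso.inv_hom_id_assoc, ← Category.assoc]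
  congr 1
  exact appLE_comp_of_eq _ _ _ hfg _ _ _ _ _ _

theorem ρ_map {ψ ψ' : Over i₀} (t : ψ' ⟶ ψ) :
    ((opensDiagram D i₀ V₀).map t).appTop.hom.comp (ρ D i₀ V₀ ψ) = ρ D i₀ V₀ ψ' := by
  have key := resLE_appTop_cat (D.map t.left) (D.map ψ.hom) (D.map ψ'.hom)
    (by rw [← D.map_comp, Over.w t]) V₀
    (by rw [← Scheme.Hom.comp_preimage, ← D.map_comp, Over.w t])
  exact congrArg CommRingCat.Hom.hom key

theorem ρ_π (ψ : Over i₀) :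
    ((opensCone D c i₀ V₀).π.app ψ).appTop.hom.comp (ρ D i₀ V₀ ψ) = ρI D c i₀ V₀ := by
  have key := resLE_appTop_cat (c.π.app ψ.left) (D.map ψ.hom) (c.π.app i₀)
    (c.w ψ.hom) V₀ (by rw [← Scheme.Hom.comp_preimage, c.w])
  exact congrArg CommRingCat.Hom.hom key

theorem topIso_hom_comp_ρ (ψ : Over i₀) :
    (D.map ψ.hom ⁻¹ᵁ V₀).topIso.hom.hom.comp (ρ D i₀ V₀ ψ) =
      ((D.map ψ.hom).appLE V₀ (D.map ψ.hom ⁻¹ᵁ V₀) le_rfl).hom := by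
  unfold ρ
  rw [← RingHom.comp_assoc, ← CommRingCat.hom_comp, Iso.inv_hom_id]
  rfl


set_option backward.isDefEq.respectTransparency false in
set_option maxHeartbeats 1600000 in
/-- chartwise flatness over the limit descends to a stage (and all later stages) -/
theorem exists_chartFlat_stage (hc : IsLimit c) (hV₀ : IsAffineOpen V₀)
    {X₀ : Scheme.{u}} (f₀ : X₀ ⟶ D.obj i₀) [LocallyOfFinitePresentation f₀]
    (F₀ : X₀.Modules) [SheafOfModules.IsFinitePresentation (R := X₀.ringCatSheaf) F₀]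
    {U₀ : X₀.Opens} (hU₀ : IsAffineOpen U₀) (e : U₀ ≤ f₀ ⁻¹ᵁ V₀)
    (h : ChartFlat f₀ F₀ e ((c.π.app i₀).appLE V₀ (c.π.app i₀ ⁻¹ᵁ V₀) le_rfl).hom) :
    ∃ ψ₁ : Over i₀, ∀ (ψ : Over i₀) (_ : ψ ⟶ ψ₁),
      ChartFlat f₀ F₀ e ((D.map ψ.hom).appLE V₀ (D.map ψ.hom ⁻¹ᵁ V₀) le_rfl).hom := by
  let D' := opensDiagram D i₀ V₀
  let c' := opensCone D c i₀ V₀
  have hc' : IsLimit c' := isLimitOpensCone D c hc i₀ V₀
  haveI : ∀ j, IsAffine (D'.obj j) := fun j => hV₀.preimage (D.map j.hom)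
  let j₀ : Over i₀ := Over.mk (𝟙 i₀)
  obtain ⟨α, _, hdir, hne, F, hsurj, hinj⟩ := exists_directed_stages D' c' j₀ hc'
  let ψa : α → Over i₀ := fun a => (F.obj a).unop.left
  let G : α → Type u := fun a => Γ(D'.obj (ψa a), ⊤)
  let iB : Algebra Γ(D.obj i₀, V₀) Γ(X₀, U₀) := (f₀.appLE V₀ U₀ e).hom.toAlgebra
  let iA : Algebra Γ(D.obj i₀, V₀) Γ(c'.pt, ⊤) := (ρI D c i₀ V₀).toAlgebra
  let iG : ∀ a, Algebra Γ(D.obj i₀, V₀) (G a) := fun a => (ρ D i₀ V₀ (ψa a)).toAlgebra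
  let iGA : ∀ a, Algebra (G a) Γ(c'.pt, ⊤) := fun a =>
    (c'.π.app (ψa a)).appTop.hom.toAlgebra
  have tower : ∀ a, IsScalarTower Γ(D.obj i₀, V₀) (G a) Γ(c'.pt, ⊤) := fun a =>
    IsScalarTower.of_algebraMap_eq' (ρ_π D c i₀ V₀ (ψa a)).symm
  let g : ∀ a b, a ≤ b → G a →ₐ[Γ(D.obj i₀, V₀)] G b := fun a b h =>
    { toRingHom := (D'.map (F.map (homOfLE h)).unop.left).appTop.hom
      commutes' := fun r => by
        exact congrArg (fun k => k r) (ρ_map D i₀ V₀ (F.map (homOfLE h)).unop.left) }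
  have hcolim : FlatCA.IsDirectedColimitRing G (fun i j h => (g i j h).toRingHom) Γ(c'.pt, ⊤) := by
    refine ⟨hdir, hne, ?_, ?_, ?_, ?_, ?_⟩
    · intro i
      change (D'.map (F.map (homOfLE le_rfl)).unop.left).appTop.hom = RingHom.id _
      have : homOfLE (le_refl i) = 𝟙 i := Subsingleton.elim _ _
      rw [this, F.map_id]
      simp
    · intro i j k hij hjk
      change (D'.map (F.map (homOfLE hjk)).unop.left).appTop.hom.comp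
        (D'.map (F.map (homOfLE hij)).unop.left).appTop.hom =
        (D'.map (F.map (homOfLE (hij.trans hjk))).unop.left).appTop.hom
      have : homOfLE (hij.trans hjk) = homOfLE hij ≫ homOfLE hjk := Subsingleton.elim _ _
      rw [this, F.map_comp, ← CommRingCat.hom_comp, ← Scheme.Hom.comp_appTop, ← D'.map_comp]
      rfl
    · intro i j h
      change (c'.π.app (ψa j)).appTop.hom.comp
        (D'.map (F.map (homOfLE h)).unop.left).appTop.hom =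
        (c'.π.app (ψa i)).appTop.hom
      rw [← CommRingCat.hom_comp, ← Scheme.Hom.comp_appTop, c'.w]
    · intro a
      obtain ⟨i, t, ht⟩ := hsurj a
      exact ⟨i, t, ht⟩
    · intro i x hx
      obtain ⟨b, h, hb⟩ := hinj i x hx
      exact ⟨b, h, hb⟩
  have hfp : Algebra.FinitePresentation Γ(D.obj i₀, V₀) Γ(X₀, U₀) :=
    HasRingHomProperty.appLE (P := @LocallyOfFinitePresentation) f₀ inferInstance
      ⟨V₀, hV₀⟩ ⟨U₀, hU₀⟩ e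
  letI modA : Module Γ(D.obj i₀, V₀) Γ(F₀, U₀) := Module.compHom _ (f₀.appLE V₀ U₀ e).hom
  haveI : IsScalarTower Γ(D.obj i₀, V₀) Γ(X₀, U₀) Γ(F₀, U₀) :=
    IsScalarTower.of_algebraMap_smul (fun r m => rfl)
  haveI : Module.FinitePresentation Γ(X₀, U₀) Γ(F₀, U₀) :=
    Groth.Agent.H44.finitePresentation_sections_of_isFinitePresentation F₀ hU₀
  have key := Groth.Agent.S4848.result G g Γ(c'.pt, ⊤) hcolim (B₀ := Γ(X₀, U₀)) Γ(F₀, U₀)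
  have h1 : ChartFlat f₀ F₀ e (ρI D c i₀ V₀) := h.comp _
  obtain ⟨a, ha⟩ := key.mp h1
  have h2 : ChartFlat f₀ F₀ e (ρ D i₀ V₀ (ψa a)) := ha
  refine ⟨ψa a, fun ψ t => ?_⟩
  refine h2.of_eq ((D.map ψ.hom ⁻¹ᵁ V₀).topIso.hom.hom.comp (D'.map t).appTop.hom) ?_
  rw [RingHom.comp_assoc, ρ_map D i₀ V₀ t, topIso_hom_comp_ρ]

end Groth.Agent.H24.ModFlat
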