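import Groth.Agent.H24.ModFlat.ChartStage
import Groth.Agent.H24.ModFlat.Transfer
import Groth.Agent.H24.LimitBaseChange
import Groth.Agent.H70.FlatLocusGeo.Main
import Groth.Agent.H44.FpqcFP

/-!
# Pointwise flatness of a base changed module over a cofiltered limit descends to a stage (helper24)
-/

set_option autoImplicit false
universe u
open CategoryTheory CategoryTheory.Limits AlgebraicGeometry TensorProduct

namespace Groth.Agent.H24.ModFlat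

theorem comp_apply' {X Y Z : Scheme.{u}} {f : X ⟶ Y} {g : Y ⟶ Z} {h : X ⟶ Z} (w : f ≫ g = h)
    (x : X) : g (f x) = h x := by
  subst w
  rfl

theorem mem_of_eq {X : Scheme.{u}} {U : X.Opens} {a b : X} (h : a = b) (hb : b ∈ U) : a ∈ U :=
  h ▸ hb

variable {I : Type u} [SmallCategory I] [IsCofiltered I] (D : I ⥤ Scheme.{u}) (c : Cone D)
  [∀ {i j : I} (f : i ⟶ j), IsAffineHom (D.map f)] (i₀ : I)

set_option backward.isDefEq.respectTransparency false in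
set_option maxHeartbeats 1600000 in
/-- canonical form, pointwise -/
theorem exists_isFlatOverAt_stage_canonical (hc : IsLimit c)
    {X₀ : Scheme.{u}} (f₀ : X₀ ⟶ D.obj i₀) [LocallyOfFinitePresentation f₀]
    (F₀ : X₀.Modules) [F₀.IsQuasicoherent]
    [SheafOfModules.IsFinitePresentation (R := X₀.ringCatSheaf) F₀]
    (x : ↥(pullback (c.π.app i₀) f₀))
    (hx : FlatMod.IsFlatOverAt (pullback.fst (c.π.app i₀) f₀)
      ((Scheme.Modules.pullback (pullback.snd (c.π.app i₀) f₀)).obj F₀) x) :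
    ∃ ψ : Over i₀, FlatMod.IsFlatOverAt (pullback.fst (D.map ψ.hom) f₀)
      ((Scheme.Modules.pullback (pullback.snd (D.map ψ.hom) f₀)).obj F₀)
      ((pullbackCone D c i₀ f₀).π.app ψ x) := by
  classical
  let X' := pullbackDiagram D i₀ f₀
  let c' := pullbackCone D c i₀ f₀
  have hc' : IsLimit c' := isLimitPullbackCone D c i₀ f₀ hc
  have hXaff : ∀ {φ ψ : Over i₀} (f : φ ⟶ ψ), IsAffineHom (X'.map f) := fun f =>
    MorphismProperty.of_isPullback (P := @IsAffineHom)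
      (isPullback_pullbackDiagram_map D i₀ f₀ f).flip inferInstance
  let j₀ : Over i₀ := Over.mk (𝟙 i₀)
  have hπ' : IsAffineHom (c'.π.app j₀) := isAffineHom_π_app X' c' hc' j₀
  let Fl := (Scheme.Modules.pullback (pullback.snd (c.π.app i₀) f₀)).obj F₀
  -- chart at the image point
  obtain ⟨U₀, V₀, hU₀, hV₀, hxU₀, e₀⟩ :=
    Groth.Agent.H71.QCoh.exists_affine_pair f₀ (pullback.snd (c.π.app i₀) f₀ x)
  let U₀' : (X'.obj j₀).Opens := (pullback.snd (D.map (𝟙 i₀)) f₀) ⁻¹ᵁ U₀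
  haveI : IsIso (D.map (𝟙 i₀)) := by rw [D.map_id]; infer_instance
  haveI : IsIso (pullback.snd (D.map (𝟙 i₀)) f₀) := inferInstance
  have hU₀' : IsAffineOpen U₀' := hU₀.preimage_of_isIso _
  let Ul : c'.pt.Opens := c'.π.app j₀ ⁻¹ᵁ U₀'
  have hUl : IsAffineOpen Ul := hU₀'.preimage (c'.π.app j₀)
  have hxUl : x ∈ Ul := by
    show (pullback.snd (D.map (𝟙 i₀)) f₀) ((c'.π.app j₀) x) ∈ U₀
    exact mem_of_eq (comp_apply' (pullbackCone_π_snd D c i₀ f₀ j₀) x) hxU₀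
  -- the flat locus is open
  haveI : SheafOfModules.IsFinitePresentation (R := (pullback (c.π.app i₀) f₀).ringCatSheaf) Fl :=
    Groth.Agent.H44.isFinitePresentation_pullback _ F₀
  have hΩ : IsOpen {z | FlatMod.IsFlatOverAt (pullback.fst (c.π.app i₀) f₀) Fl z} :=
    Groth.Agent.H70.FlatLocusGeo.isOpen_setOf_isFlatOverAt _ Fl
  let Ω : c'.pt.Opens := ⟨_, hΩ⟩
  obtain ⟨s, hsΩ, hxs⟩ := hUl.exists_basicOpen_le (V := Ω) ⟨x, hx⟩ hxUl
  -- descend the section `s` to a stage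
  let D'' := opensDiagram X' j₀ U₀'
  let c'' := opensCone X' c' j₀ U₀'
  have hc'' : IsLimit c'' := isLimitOpensCone X' c' hc' j₀ U₀'
  haveI : ∀ j, IsAffine (D''.obj j) := fun j => hU₀'.preimage (X'.map j.hom)
  have hΓ : IsColimit (Scheme.Γ.mapCocone c''.op) :=
    (nonempty_isColimit_Γ_mapCocone D'' c'' hc'').some
  obtain ⟨j, t, ht⟩ := Concrete.isColimit_exists_rep (D''.op ⋙ Scheme.Γ) hΓ (Ul.topIso.inv s)
  let ψ₁ : Over i₀ := j.unop.left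
  let b₁ : ψ₁ ⟶ j₀ := j.unop.hom
  let U₁' : (X'.obj ψ₁).Opens := X'.map b₁ ⁻¹ᵁ U₀'
  have hU₁' : IsAffineOpen U₁' := hU₀'.preimage (X'.map b₁)
  have hle : Ul ≤ c'.π.app ψ₁ ⁻¹ᵁ U₁' := by
    rw [← Scheme.Hom.comp_preimage, c'.w b₁]
  let s₁ : Γ(X'.obj ψ₁, U₁') := U₁'.topIso.hom t
  have hs₁ : (c'.π.app ψ₁).appLE U₁' Ul hle s₁ = s := by
    have h1 : (c''.π.app j.unop).appTop t = Ul.topIso.inv s := ht
    have h2 : (c''.π.app j.unop).appTop =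
        U₁'.topIso.hom ≫ (c'.π.app ψ₁).appLE U₁' Ul hle ≫ Ul.topIso.inv :=
      Scheme.Hom.resLE_app_top ..
    rw [h2] at h1
    have h3 : Ul.topIso.inv ((c'.π.app ψ₁).appLE U₁' Ul hle s₁) = Ul.topIso.inv s := h1
    exact (ConcreteCategory.bijective_of_isIso Ul.topIso.inv).injective h3
  let U₁ : (X'.obj ψ₁).Opens := (X'.obj ψ₁).basicOpen s₁
  have hU₁ : IsAffineOpen U₁ := hU₁'.basicOpen s₁
  have hU₁le : U₁ ≤ U₁' := (X'.obj ψ₁).basicOpen_le s₁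
  have hbasic : c'.pt.basicOpen s = Ul ⊓ c'.π.app ψ₁ ⁻¹ᵁ U₁ := by
    rw [← hs₁]
    exact Scheme.basicOpen_appLE ..
  -- the new base stage
  let i₁ : I := ψ₁.left
  let f₁ : X'.obj ψ₁ ⟶ D.obj i₁ := pullback.fst (D.map ψ₁.hom) f₀
  let F₁ : (X'.obj ψ₁).Modules :=
    (Scheme.Modules.pullback (pullback.snd (D.map ψ₁.hom) f₀)).obj F₀
  haveI : SheafOfModules.IsFinitePresentation (R := (X'.obj ψ₁).ringCatSheaf) F₁ :=
    Groth.Agent.H44.isFinitePresentation_pullback _ F₀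
  let V₁ : (D.obj i₁).Opens := D.map ψ₁.hom ⁻¹ᵁ V₀
  have hV₁ : IsAffineOpen V₁ := hV₀.preimage (D.map ψ₁.hom)
  have hmemU₁' : ∀ z : X'.obj ψ₁, z ∈ U₁' → (pullback.snd (D.map ψ₁.hom) f₀) z ∈ U₀ := by
    intro z hz
    have : (pullback.snd (D.map (𝟙 i₀)) f₀) ((X'.map b₁) z) ∈ U₀ := hz
    exact mem_of_eq (comp_apply' (pullbackDiagram_map_snd D i₀ f₀ b₁) z).symm this
  have e₁ : U₁ ≤ f₁ ⁻¹ᵁ V₁ := by
    intro z hz
    show (D.map ψ₁.hom) ((pullback.fst (D.map ψ₁.hom) f₀) z) ∈ V₀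
    have h1 : (D.map ψ₁.hom) ((pullback.fst (D.map ψ₁.hom) f₀) z) =
        f₀ ((pullback.snd (D.map ψ₁.hom) f₀) z) :=
      (comp_apply' rfl z).trans (comp_apply'
        (pullback.condition (f := D.map ψ₁.hom) (g := f₀)).symm z).symm
    exact mem_of_eq h1 (e₀ (hmemU₁' z (hU₁le hz)))
  have hπ₁ : IsAffineHom (c.π.app i₁) := isAffineHom_π_app D c hc i₁
  -- chartwise flatness at the limit
  have hchart : ChartFlat f₁ F₁ e₁ ((c.π.app i₁).appLE V₁ (c.π.app i₁ ⁻¹ᵁ V₁) le_rfl).hom := by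
    refine chartFlat_of_isFlatOverAt (isPullback_pullbackCone_π D c i₀ f₀ ψ₁) F₁ hV₁
      (hV₁.preimage (c.π.app i₁)) hU₁ le_rfl e₁ (fun x' hx' => ?_)
    have hx'1 : x' ∈ c'.π.app ψ₁ ⁻¹ᵁ U₁ := hx'.1
    have hx'U : x' ∈ Ul := by
      show (c'.π.app j₀) x' ∈ U₀'
      exact mem_of_eq (comp_apply' (c'.w b₁) x').symm (hU₁le hx'1)
    have hx'Ω : x' ∈ Ω := hsΩ (by rw [hbasic]; exact ⟨hx'U, hx'1⟩)
    let E : (Scheme.Modules.pullback (c'.π.app ψ₁)).obj F₁ ≅ Fl :=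
      (Scheme.Modules.pullbackComp (c'.π.app ψ₁) (pullback.snd (D.map ψ₁.hom) f₀)).app F₀ ≪≫
        (Scheme.Modules.pullbackCongr (pullbackCone_π_snd D c i₀ f₀ ψ₁)).app F₀
    exact Groth.Agent.H70.RelFlatBC.isFlatOverAt_of_iso _ E.symm x' hx'Ω
  obtain ⟨ψ₂, hψ₂⟩ := exists_chartFlat_stage D c i₁ V₁ hc hV₁ f₁ F₁ hU₁ e₁ hchart
  have hchart₂ := hψ₂ ψ₂ (𝟙 ψ₂)
  let ψ : Over i₀ := Over.mk (ψ₂.hom ≫ ψ₁.hom)
  let b : ψ ⟶ ψ₁ := Over.homMk ψ₂.hom rfl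
  refine ⟨ψ, ?_⟩
  have hsq₂ := isPullback_pullbackDiagram_map D i₀ f₀ b
  have hxs' : x ∈ Ul ⊓ c'.π.app ψ₁ ⁻¹ᵁ U₁ := by rw [← hbasic]; exact hxs
  have hmem1 : (X'.map b) ((c'.π.app ψ) x) ∈ U₁ := by
    exact mem_of_eq (comp_apply' (c'.w b) x) hxs'.2
  have hmem2 : (pullback.fst (D.map ψ.hom) f₀) ((c'.π.app ψ) x) ∈ D.map ψ₂.hom ⁻¹ᵁ V₁ := by
    show (D.map ψ₂.hom) ((pullback.fst (D.map ψ.hom) f₀) ((c'.π.app ψ) x)) ∈ V₁
    have h1 : (D.map ψ₂.hom) ((pullback.fst (D.map ψ.hom) f₀) ((c'.π.app ψ) x)) =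
        (pullback.fst (D.map ψ₁.hom) f₀) ((X'.map b) ((c'.π.app ψ) x)) :=
      (comp_apply' rfl _).trans (comp_apply' hsq₂.w _).symm
    exact mem_of_eq h1 (e₁ hmem1)
  have key := isFlatOverAt_of_chartFlat hsq₂ F₁ hV₁ (hV₁.preimage (D.map ψ₂.hom)) hU₁ le_rfl e₁
    hchart₂ (x' := (c'.π.app ψ) x) ⟨hmem1, hmem2⟩
  let E : (Scheme.Modules.pullback (X'.map b)).obj F₁ ≅
      (Scheme.Modules.pullback (pullback.snd (D.map ψ.hom) f₀)).obj F₀ :=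
    (Scheme.Modules.pullbackComp (X'.map b) (pullback.snd (D.map ψ₁.hom) f₀)).app F₀ ≪≫
      (Scheme.Modules.pullbackCongr (pullbackDiagram_map_snd D i₀ f₀ b)).app F₀
  exact Groth.Agent.H70.RelFlatBC.isFlatOverAt_of_iso _ E _ key

end Groth.Agent.H24.ModFlat
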