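import Groth.Agent.H24.ModFlat.StagePt

/-!
# Pointwise flatness over a cofiltered limit descends to a stage: representative-free form (helper24)
-/

set_option autoImplicit false
universe u
open CategoryTheory CategoryTheory.Limits AlgebraicGeometry

namespace Groth.Agent.H24.ModFlat

/-- pointwise transfer of relative flatness between base changes -/
theorem isFlatOverAt_of_isPullback {X₀ Y₀ X₁ Y₁ X₂ Y₂ : Scheme.{u}} {f₀ : X₀ ⟶ Y₀} {f₁ : X₁ ⟶ Y₁}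
    {f₂ : X₂ ⟶ Y₂} {p₁ : X₁ ⟶ X₀} {q₁ : Y₁ ⟶ Y₀} {p₂ : X₂ ⟶ X₀} {q₂ : Y₂ ⟶ Y₀}
    (h₁ : IsPullback p₁ f₁ f₀ q₁) (h₂ : IsPullback p₂ f₂ f₀ q₂) (v : Y₂ ⟶ Y₁) (hv : v ≫ q₁ = q₂)
    (w : X₂ ⟶ X₁) (hw1 : w ≫ p₁ = p₂) (hw2 : w ≫ f₁ = f₂ ≫ v)
    (F₀ : X₀.Modules) [F₀.IsQuasicoherent] (x : X₂)
    (hflat : FlatMod.IsFlatOverAt f₁ ((Scheme.Modules.pullback p₁).obj F₀) (w x)) :
    FlatMod.IsFlatOverAt f₂ ((Scheme.Modules.pullback p₂).obj F₀) x := by
  have hsq : IsPullback w f₂ f₁ v := IsPullback.of_right (by rw [hw1, hv]; exact h₂) hw2 h₁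
  have key := Groth.Agent.H71.QCoh.isFlatOverAt_baseChange hsq
    ((Scheme.Modules.pullback p₁).obj F₀) x hflat
  let e : (Scheme.Modules.pullback w).obj ((Scheme.Modules.pullback p₁).obj F₀) ≅
      (Scheme.Modules.pullback p₂).obj F₀ :=
    (Scheme.Modules.pullbackComp w p₁).app F₀ ≪≫ (Scheme.Modules.pullbackCongr hw1).app F₀
  exact Groth.Agent.H70.RelFlatBC.isFlatOverAt_of_iso f₂ e x key

theorem isPullback_of_comp_iso {X₀ Y₀ Y₀' X₁ Y₁ : Scheme.{u}} {f₀ : X₀ ⟶ Y₀} (e : Y₀' ⟶ Y₀)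
    [IsIso e] {f₁ : X₁ ⟶ Y₁} {p₁ : X₁ ⟶ X₀} {q₁ : Y₁ ⟶ Y₀'}
    (h : IsPullback p₁ f₁ f₀ (q₁ ≫ e)) : IsPullback p₁ f₁ (f₀ ≫ inv e) q₁ :=
  IsPullback.of_iso h (Iso.refl _) (Iso.refl _) (Iso.refl _) (asIso e).symm (by simp) (by simp)
    (by simp) (by simp)

variable {I : Type u} [SmallCategory I] [IsCofiltered I] (D : I ⥤ Scheme.{u}) (c : Cone D)
  [∀ {i j : I} (f : i ⟶ j), IsAffineHom (D.map f)] (i₀ : I)

/-- representative-free form of `exists_isFlatOverAt_stage_canonical` -/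
theorem exists_isFlatOverAt_stage (hc : IsLimit c)
    {X₀ : Scheme.{u}} (f₀ : X₀ ⟶ D.obj i₀) [LocallyOfFinitePresentation f₀]
    (F₀ : X₀.Modules) [F₀.IsQuasicoherent]
    [SheafOfModules.IsFinitePresentation (R := X₀.ringCatSheaf) F₀]
    {X : Scheme.{u}} (f : X ⟶ c.pt) (qX : X ⟶ X₀) (hX : IsPullback qX f f₀ (c.π.app i₀)) (x : X)
    (hx : FlatMod.IsFlatOverAt f ((Scheme.Modules.pullback qX).obj F₀) x) :
    ∃ ψ : Over i₀, ∀ (Xi : Scheme.{u}) (fi : Xi ⟶ D.obj ψ.left) (pX : Xi ⟶ X₀)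
      (_ : IsPullback pX fi f₀ (D.map ψ.hom)) (vX : X ⟶ Xi) (_ : vX ≫ pX = qX)
      (_ : vX ≫ fi = f ≫ c.π.app ψ.left),
      FlatMod.IsFlatOverAt fi ((Scheme.Modules.pullback pX).obj F₀) (vX x) := by
  let u : X ⟶ pullback (c.π.app i₀) f₀ := pullback.lift f qX hX.w.symm
  let w : pullback (c.π.app i₀) f₀ ⟶ X :=
    hX.lift (pullback.snd (c.π.app i₀) f₀) (pullback.fst (c.π.app i₀) f₀) pullback.condition.symm
  have huw : u ≫ w = 𝟙 X := by
    apply hX.hom_ext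
    · rw [Category.assoc, hX.lift_fst, pullback.lift_snd, Category.id_comp]
    · rw [Category.assoc, hX.lift_snd, pullback.lift_fst, Category.id_comp]
  have hwu : w (u x) = x := by
    rw [comp_apply' huw x]
    rfl
  have h1 : FlatMod.IsFlatOverAt (pullback.fst (c.π.app i₀) f₀)
      ((Scheme.Modules.pullback (pullback.snd (c.π.app i₀) f₀)).obj F₀) (u x) := by
    refine isFlatOverAt_of_isPullback hX (IsPullback.of_hasPullback (c.π.app i₀) f₀).flip (𝟙 _)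
      (Category.id_comp _) w (hX.lift_fst _ _ _) ?_ F₀ (u x) ?_
    · rw [Category.comp_id]
      exact hX.lift_snd _ _ _
    · rw [hwu]
      exact hx
  obtain ⟨ψ, hψ⟩ := exists_isFlatOverAt_stage_canonical D c i₀ hc f₀ F₀ (u x) h1
  refine ⟨ψ, fun Xi fi pX hXi vX e1 e2 => ?_⟩
  let w' : Xi ⟶ pullback (D.map ψ.hom) f₀ := pullback.lift fi pX hXi.w.symm
  have hR1 : (u ≫ (pullbackCone D c i₀ f₀).π.app ψ) ≫ pullback.fst (D.map ψ.hom) f₀ =
      f ≫ c.π.app ψ.left :=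
    calc (u ≫ (pullbackCone D c i₀ f₀).π.app ψ) ≫ pullback.fst (D.map ψ.hom) f₀
        = u ≫ ((pullbackCone D c i₀ f₀).π.app ψ ≫ pullback.fst (D.map ψ.hom) f₀) :=
          Category.assoc _ _ _
      _ = u ≫ (pullback.fst (c.π.app i₀) f₀ ≫ c.π.app ψ.left) :=
          congrArg (fun k => u ≫ k) (pullbackCone_π_fst D c i₀ f₀ ψ)
      _ = (u ≫ pullback.fst (c.π.app i₀) f₀) ≫ c.π.app ψ.left := (Category.assoc _ _ _).symm
      _ = f ≫ c.π.app ψ.left := by rw [pullback.lift_fst]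
  have hR2 : (u ≫ (pullbackCone D c i₀ f₀).π.app ψ) ≫ pullback.snd (D.map ψ.hom) f₀ = qX :=
    calc (u ≫ (pullbackCone D c i₀ f₀).π.app ψ) ≫ pullback.snd (D.map ψ.hom) f₀
        = u ≫ ((pullbackCone D c i₀ f₀).π.app ψ ≫ pullback.snd (D.map ψ.hom) f₀) :=
          Category.assoc _ _ _
      _ = u ≫ pullback.snd (c.π.app i₀) f₀ :=
          congrArg (fun k => u ≫ k) (pullbackCone_π_snd D c i₀ f₀ ψ)
      _ = qX := pullback.lift_snd _ _ _
  have hcomp : vX ≫ w' = u ≫ (pullbackCone D c i₀ f₀).π.app ψ := by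
    apply pullback.hom_ext
    · rw [Category.assoc, pullback.lift_fst, e2]
      exact hR1.symm
    · rw [Category.assoc, pullback.lift_snd, e1]
      exact hR2.symm
  have hpt : w' (vX x) = (pullbackCone D c i₀ f₀).π.app ψ (u x) :=
    (comp_apply' rfl x).trans ((congrArg (fun k => k x) hcomp).trans (comp_apply' rfl x).symm)
  refine isFlatOverAt_of_isPullback (IsPullback.of_hasPullback (D.map ψ.hom) f₀).flip hXi (𝟙 _)
    (Category.id_comp _) w' (pullback.lift_snd _ _ _) ?_ F₀ (vX x) ?_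
  · rw [Category.comp_id]
    exact pullback.lift_fst _ _ _
  · rw [hpt]
    exact hψ

end Groth.Agent.H24.ModFlat
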